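import Groth.Agent.Lib.BranchSm1.Apply
import Groth.Agent.Lib.Branch14.GUTensor
import Groth.Agent.Lib.Branch14.FibreRing
import Groth.Agent.Lib.Branch14.Main
import Groth.Agent.Lib.Branch14.Birational

/-!
# Geometric branches do not change under extension of the ground field

Over each minimal prime of a strict henselization lies exactly one minimal prime after a field
extension, since a normal algebra stays geometrically unibranch after a field extension.
-/

open IsLocalRing

open scoped TensorProduct

set_option linter.style.haveILetI false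
set_option backward.isDefEq.respectTransparency false

namespace Groth.Agent.BranchField25

universe u

/-- Transport of the uniqueness of the minimal prime. -/
theorem hasUniqueMinimalPrime_of_ringEquiv {X X' : Type u} [CommRing X] [CommRing X'] (e : X ≃+* X')
    (h : CAlgX.HasUniqueMinimalPrime X) :
    ∃ q : Ideal X', q.IsPrime ∧ ∀ Q : Ideal X', Q.IsPrime → q ≤ Q := by
  obtain ⟨p, hp, hu⟩ := h
  haveI := hp.1.1
  refine ⟨p.comap e.symm.toRingHom, inferInstance, fun Q hQ => ?_⟩
  haveI := hQ
  obtain ⟨p', hp', hle⟩ := Ideal.exists_minimalPrimes_le (I := (⊥ : Ideal X)) (J := Q.comap e.toRingHom) bot_le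
  rw [hu p' hp'] at hle
  intro x hx
  have := hle hx
  rw [Ideal.mem_comap] at this
  exact (e.apply_symm_apply x) ▸ this

/-- A faithfully flat base change is surjective on spectra. -/
theorem surjective_comap_tensor {A B T : Type u} [CommRing A] [CommRing B] [Algebra A B] [CommRing T]
    [Algebra A T] [Module.FaithfullyFlat A T] :
    Function.Surjective (PrimeSpectrum.comap (algebraMap B (B ⊗[A] T))) :=
  PrimeSpectrum.comap_surjective_of_faithfullyFlat

/-- Geometric unibranchness at all primes passes to a base changed localization. -/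
theorem gu_tensor_localization {R : Type u} (N D L : Type u) [CommRing R] [CommRing N] [Algebra R N] [CommRing D]
    [Algebra R D] [CommRing L] [Algebra R L] [Algebra D L] [IsScalarTower R D L] (M : Submonoid D)
    [IsLocalization M L]
    (h : ∀ (V : Ideal (N ⊗[R] D)) [V.IsPrime], CAlg2.IsGeomUnibranch (Localization.AtPrime V))
    (W : Ideal (N ⊗[R] L)) [W.IsPrime] : CAlg2.IsGeomUnibranch (Localization.AtPrime W) := by
  let γ : N ⊗[R] D →ₐ[N] N ⊗[R] L :=
    Algebra.TensorProduct.map (AlgHom.id N N) (IsScalarTower.toAlgHom R D L)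
  letI : Algebra (N ⊗[R] D) (N ⊗[R] L) := γ.toRingHom.toAlgebra
  haveI : IsScalarTower N (N ⊗[R] D) (N ⊗[R] L) :=
    IsScalarTower.of_algebraMap_eq fun x => (γ.commutes x).symm
  haveI := IsLocalization.tensorProduct_tensorProduct_right R N M L (RingHom.ext fun a => by
    show γ ((1 : N) ⊗ₜ[R] a) = (1 : N) ⊗ₜ[R] algebraMap D L a
    simp [γ])
  let W' := W.comap (algebraMap (N ⊗[R] D) (N ⊗[R] L))
  haveI : W'.IsPrime := Ideal.comap_isPrime _ _
  haveI : IsLocalization.AtPrime (Localization.AtPrime W) W' :=
    IsLocalization.isLocalization_isLocalization_atPrime_isLocalization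
      (M.map (Algebra.TensorProduct.includeRight (R := R) (A := N)))
      (Localization.AtPrime W) W
  exact (Branch14.Bir.gu_congr (IsLocalization.algEquiv W'.primeCompl (Localization.AtPrime W')
    (Localization.AtPrime W)).toRingEquiv).1 (h W')

/-- An integral algebra which is geometrically unibranch and local after tensoring with a strict
henselization has then a unique minimal prime. -/
theorem uniqueMinimal_tensor (A B T : Type u) [CommRing A] [IsLocalRing A] [CommRing B] [Algebra A B]
    [Algebra.IsIntegral A B] [CommRing T] [IsLocalRing T] [Algebra A T] [IsLocalHom (algebraMap A T)]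
    [Hensel.IsStrictHenselization A T] [IsLocalRing (B ⊗[A] T)]
    (hGU : ∀ (W : Ideal B) [W.IsPrime], CAlg2.IsGeomUnibranch (Localization.AtPrime W)) :
    CAlgX.HasUniqueMinimalPrime (B ⊗[A] T) := by
  haveI hffA : Module.FaithfullyFlat A T := Hens.strictHenselization_faithfullyFlat A T
  have hcomap : Function.Surjective (PrimeSpectrum.comap (algebraMap B (B ⊗[A] T))) :=
    surjective_comap_tensor
  haveI : Nontrivial B := RingHom.domain_nontrivial (algebraMap B (B ⊗[A] T))
  obtain ⟨M, hM⟩ := Ideal.exists_maximal B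
  have huniq : ∀ M' : Ideal B, M'.IsMaximal → M' = (maximalIdeal (B ⊗[A] T)).comap (algebraMap B (B ⊗[A] T)) := by
    intro M' hM'
    obtain ⟨W, hW⟩ := hcomap ⟨M', hM'.isPrime⟩
    refine hM'.eq_of_le (Ideal.IsPrime.comap _).ne_top ?_
    rw [show M' = W.asIdeal.comap (algebraMap B (B ⊗[A] T)) from (congrArg PrimeSpectrum.asIdeal hW).symm]
    exact Ideal.comap_mono (le_maximalIdeal W.2.ne_top)
  haveI : IsLocalRing B := .of_unique_max_ideal ⟨M, hM, fun M' hM' => (huniq M' hM').trans (huniq M hM).symm⟩
  haveI : IsLocalHom (algebraMap B (B ⊗[A] T)) :=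
    ((local_hom_TFAE _).out 0 4).mpr (huniq _ inferInstance).symm
  haveI : IsLocalHom (algebraMap A B) := by
    refine ((local_hom_TFAE _).out 0 4).mpr ?_
    exact IsLocalRing.eq_maximalIdeal (Ideal.isMaximal_comap_of_isIntegral_of_isMaximal (maximalIdeal B))
  have hB : CAlg2.IsGeomUnibranch B :=
    (Branch14.Bir.gu_congr (IsLocalization.atUnits B (maximalIdeal B).primeCompl
      (S := Localization.AtPrime (maximalIdeal B)) fun x hx => of_not_not hx).symm.toRingEquiv).1
      (hGU (maximalIdeal B))
  haveI := BranchSm1.isStrictHenselization_tensor (A := A) (B := B) (S := T)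
  exact (Branch14.isGeomUnibranch_iff B (B ⊗[A] T)).1 hB

/-- If normal algebras stay geometrically unibranch, over each prime there is a least prime. -/
theorem exists_least_over (R A T : Type u) [CommRing R] [HenselianLocalRing R] [CommRing A] [IsLocalRing A]
    [Algebra R A] [IsLocalHom (algebraMap R A)] [Module.Flat R A] [CommRing T] [IsLocalRing T] [Algebra A T]
    [IsLocalHom (algebraMap A T)] [Hensel.IsStrictHenselization A T] [Algebra R T] [IsScalarTower R A T]
    (hGU : ∀ (N : Type u) [CommRing N] [IsDomain N] [IsIntegrallyClosed N] [Algebra R N]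
      (W : Ideal (N ⊗[R] A)) [W.IsPrime], CAlg2.IsGeomUnibranch (Localization.AtPrime W))
    (hlocal : ∀ (N : Type u) [CommRing N] [IsLocalRing N] [Algebra R N] [IsLocalHom (algebraMap R N)],
      Algebra.IsIntegral R N → IsLocalRing (N ⊗[R] T))
    (P : Ideal R) [P.IsPrime] :
    ∃ q : Ideal T, q.IsPrime ∧ P.map (algebraMap R T) ≤ q ∧
      ∀ Q : Ideal T, Q.IsPrime → P.map (algebraMap R T) ≤ Q → q ≤ Q := by
  haveI hffA : Module.FaithfullyFlat A T := Hens.strictHenselization_faithfullyFlat A T
  haveI : Module.Flat R T := Module.Flat.trans R A T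
  let K := P.ResidueField
  let N := integralClosure R K
  haveI : IsLocalRing N := HensH7.isLocalRing_of_integral_domain R
  haveI : IsLocalHom (algebraMap R N) := by
    refine ((local_hom_TFAE _).out 0 4).mpr ?_
    exact IsLocalRing.eq_maximalIdeal (Ideal.isMaximal_comap_of_isIntegral_of_isMaximal (maximalIdeal N))
  haveI : IsFractionRing N K := by
    refine IsFractionRing.of_field N K fun z => ?_
    obtain ⟨a, b, hb, rfl⟩ := IsFractionRing.div_surjective (A := R ⧸ P) z
    obtain ⟨a, rfl⟩ := Ideal.Quotient.mk_surjective a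
    obtain ⟨b, rfl⟩ := Ideal.Quotient.mk_surjective b
    exact ⟨algebraMap R N a, algebraMap R N b, rfl⟩
  haveI : IsIntegrallyClosed N :=
    (IsIntegrallyClosed.integralClosure_eq_bot_iff K).mp integralClosure_idem
  haveI : IsLocalRing (N ⊗[R] T) := hlocal N inferInstance
  let B := A ⊗[R] N
  let e₀ : B ≃ₐ[R] N ⊗[R] A := Algebra.TensorProduct.comm R A N
  let e₁ : T ⊗[A] B ≃ₐ[R] T ⊗[R] N :=
    (Algebra.TensorProduct.cancelBaseChange R A T T N).restrictScalars R
  let e₂ : B ⊗[A] T ≃+* T ⊗[R] N :=
    (Algebra.TensorProduct.comm A B T).toRingEquiv.trans e₁.toRingEquiv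
  haveI : IsLocalRing (B ⊗[A] T) :=
    (e₂.trans (Algebra.TensorProduct.comm R T N).toRingEquiv).symm.isLocalRing
  obtain ⟨W₀, hW₀, hmin⟩ := hasUniqueMinimalPrime_of_ringEquiv e₂
    (uniqueMinimal_tensor A B T fun V _ =>
      (Branch14.GUT.gu_atPrime_equiv e₀.toRingEquiv V).1 fun P' _ _ => hGU N P')
  haveI := hW₀
  have hker₁ : P.map (algebraMap R T) ≤ RingHom.ker (algebraMap T (T ⊗[R] N)) := by
    rw [Ideal.map_le_iff_le_comap]
    intro p hp
    show algebraMap R T p ⊗ₜ[R] (1 : N) = 0
    rw [Algebra.algebraMap_eq_smul_one, TensorProduct.smul_tmul, ← Algebra.algebraMap_eq_smul_one,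
      show algebraMap R N p = 0 from Subtype.ext (Ideal.algebraMap_residueField_eq_zero.2 hp), TensorProduct.tmul_zero]
  have hker₂ : RingHom.ker (algebraMap T (T ⊗[R] N)) ≤ P.map (algebraMap R T) := by
    let ι : P →ₗ[R] R := P.subtype
    let ρ : R →ₗ[R] N := Algebra.linearMap R N
    have hex : Function.Exact ι ρ := fun r => by
      show algebraMap R N r = 0 ↔ _
      rw [Subtype.ext_iff]
      show algebraMap R K r = 0 ↔ _
      rw [Ideal.algebraMap_residueField_eq_zero]
      simp [ι]
    have hexT : Function.Exact (ι.lTensor T) (ρ.lTensor T) := Module.Flat.lTensor_exact T hex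
    intro t ht
    have h1 : ρ.lTensor T (t ⊗ₜ[R] (1 : R)) = 0 := by
      rw [LinearMap.lTensor_tmul]
      show t ⊗ₜ[R] algebraMap R N 1 = 0
      rw [map_one]; exact ht
    obtain ⟨z, hz⟩ := (hexT _).1 h1
    have h2 : ∀ z : T ⊗[R] P, TensorProduct.rid R T (ι.lTensor T z) ∈ P.map (algebraMap R T) := by
      intro z
      induction z using TensorProduct.induction_on with
      | zero => simp
      | add x y hx hy => rw [map_add, map_add]; exact Ideal.add_mem _ hx hy
      | tmul t p =>
        rw [LinearMap.lTensor_tmul, TensorProduct.rid_tmul, Algebra.smul_def]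
        exact Ideal.mul_mem_right _ _ (Ideal.mem_map_of_mem _ p.2)
    have := h2 z
    rwa [hz, TensorProduct.rid_tmul, one_smul] at this
  refine ⟨W₀.comap (algebraMap T (T ⊗[R] N)), inferInstance,
    hker₁.trans (Ideal.ker_le_comap _), fun Q hQ hle => ?_⟩
  haveI := hQ
  obtain ⟨W, -, hW, hWQ⟩ := Ideal.exists_ideal_over_prime_of_isIntegral (S := T ⊗[R] N) Q ⊥
    (show RingHom.ker (algebraMap T (T ⊗[R] N)) ≤ Q from hker₂.trans hle)
  rw [← hWQ]
  exact Ideal.comap_mono (hmin W hW)

/-- The number of branches is preserved: an abstract form. -/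
theorem encard_minimalPrimes_eq (R A T : Type u) [CommRing R] [HenselianLocalRing R] [CommRing A] [IsLocalRing A]
    [Algebra R A] [IsLocalHom (algebraMap R A)] [Module.Flat R A] [CommRing T] [IsLocalRing T] [Algebra A T]
    [IsLocalHom (algebraMap A T)] [Hensel.IsStrictHenselization A T] [Algebra R T] [IsScalarTower R A T]
    (hGU : ∀ (N : Type u) [CommRing N] [IsDomain N] [IsIntegrallyClosed N] [Algebra R N]
      (W : Ideal (N ⊗[R] A)) [W.IsPrime], CAlg2.IsGeomUnibranch (Localization.AtPrime W))
    (hlocal : ∀ (N : Type u) [CommRing N] [IsLocalRing N] [Algebra R N] [IsLocalHom (algebraMap R N)],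
      Algebra.IsIntegral R N → IsLocalRing (N ⊗[R] T)) :
    (minimalPrimes T).encard = (minimalPrimes R).encard := by
  haveI hffA : Module.FaithfullyFlat A T := Hens.strictHenselization_faithfullyFlat A T
  haveI : Module.Flat R T := Module.Flat.trans R A T
  haveI : IsLocalHom (algebraMap R T) := by rw [IsScalarTower.algebraMap_eq R A T]; infer_instance
  haveI : Module.FaithfullyFlat R T := Module.FaithfullyFlat.of_flat_of_isLocalHom
  let Φ : Ideal T → Ideal R := Ideal.comap (algebraMap R T)
  have hmem : ∀ Q ∈ minimalPrimes T, Φ Q ∈ minimalPrimes R := fun Q hQ => Branch14.comap_mem_minimalPrimes_of_flat Q hQ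
  have himage : Φ '' minimalPrimes T = minimalPrimes R := by
    refine Set.Subset.antisymm (Set.image_subset_iff.2 hmem) fun P hP => ?_
    haveI := hP.1.1
    obtain ⟨P', hP'⟩ := PrimeSpectrum.comap_surjective_of_faithfullyFlat (B := T) (⟨P, hP.1.1⟩ : PrimeSpectrum R)
    obtain ⟨Q, hQ, hle⟩ := Ideal.exists_minimalPrimes_le (I := (⊥ : Ideal T)) (J := P'.asIdeal) bot_le
    have h1 : Φ Q ≤ P := (Ideal.comap_mono hle).trans (congrArg PrimeSpectrum.asIdeal hP').le
    exact ⟨Q, hQ, le_antisymm h1 (hP.2 ⟨(hmem Q hQ).1.1, bot_le⟩ h1)⟩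
  rw [← himage]
  refine (Set.InjOn.encard_image fun Q hQ Q' hQ' h => ?_).symm
  haveI := (hmem Q hQ).1.1
  obtain ⟨q, hq, -, hle⟩ := exists_least_over R A T hGU hlocal (Φ Q)
  have e : ∀ W ∈ minimalPrimes T, Φ W = Φ Q → W = q := fun W hW hWQ => by
    have h1 : q ≤ W := hle W hW.1.1 (Ideal.map_le_iff_le_comap.2 hWQ.ge)
    exact le_antisymm (hW.2 ⟨hq, bot_le⟩ h1) h1
  exact (e Q hQ rfl).trans (e Q' hQ' h.symm).symm

/-- The strict henselization of a field extension has as many minimal primes. -/
theorem encard_minimalPrimes_field (k : Type u) [Field k] (R : Type u) [CommRing R] [Algebra k R]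
    (k' : Type u) [Field k'] [Algebra k k'] (q : Ideal (R ⊗[k] k')) [q.IsPrime] (p : Ideal R) [p.IsPrime]
    [q.LiesOver p]
    (Ash : Type u) [CommRing Ash] [IsLocalRing Ash] [Algebra (Localization.AtPrime p) Ash]
    [IsLocalHom (algebraMap (Localization.AtPrime p) Ash)] [Hensel.IsStrictHenselization (Localization.AtPrime p) Ash]
    (Bsh : Type u) [CommRing Bsh] [IsLocalRing Bsh] [Algebra (Localization.AtPrime q) Bsh]
    [IsLocalHom (algebraMap (Localization.AtPrime q) Bsh)] [Hensel.IsStrictHenselization (Localization.AtPrime q) Bsh] :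
    (minimalPrimes Bsh).encard = (minimalPrimes Ash).encard := by
  let S := R ⊗[k] k'
  haveI hA : HenselianLocalRing Ash := Hensel.IsStrictHenselization.henselian (R := Localization.AtPrime p)
  haveI hB : HenselianLocalRing Bsh := Hensel.IsStrictHenselization.henselian (R := Localization.AtPrime q)
  haveI hclA : IsSepClosed (ResidueField Ash) := (Hensel.IsStrictHenselization.isSepClosure (R := Localization.AtPrime p) (S := Ash)).1
  haveI hclB : IsSepClosed (ResidueField Bsh) := (Hensel.IsStrictHenselization.isSepClosure (R := Localization.AtPrime q) (S := Bsh)).1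
  have hqp : p = q.comap (algebraMap R S) := q.over_def p
  let φ := Localization.localRingHom p q (algebraMap R S) hqp
  haveI : IsLocalHom φ := Localization.isLocalHom_localRingHom _ _ _ hqp
  let f : Localization.AtPrime p →+* Bsh := (algebraMap (Localization.AtPrime q) Bsh).comp φ
  obtain ⟨τ, hτ⟩ := Hens.exists_residue_lift (A := Localization.AtPrime p) (S := Ash) f
  obtain ⟨g, ⟨hg, hgτ⟩, -⟩ := Hensel.IsStrictHenselization.universal (R := Localization.AtPrime p) (S := Ash) Bsh f τ hτ
  haveI : IsLocalHom g := ⟨fun x hx => residue_ne_zero_iff_isUnit x |>.1 fun h => by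
    have := residue_ne_zero_iff_isUnit (g x) |>.2 hx
    rw [hgτ, h, map_zero] at this
    exact this rfl⟩
  letI : Algebra R Ash := ((algebraMap (Localization.AtPrime p) Ash).comp (algebraMap R (Localization.AtPrime p))).toAlgebra
  haveI : IsScalarTower R (Localization.AtPrime p) Ash := IsScalarTower.of_algebraMap_eq fun _ => rfl
  letI : Algebra S Bsh := ((algebraMap (Localization.AtPrime q) Bsh).comp (algebraMap S (Localization.AtPrime q))).toAlgebra
  haveI : IsScalarTower S (Localization.AtPrime q) Bsh := IsScalarTower.of_algebraMap_eq fun _ => rfl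
  letI : Algebra R Bsh := ((algebraMap S Bsh).comp (algebraMap R S)).toAlgebra
  haveI : IsScalarTower R S Bsh := IsScalarTower.of_algebraMap_eq fun _ => rfl
  letI : Algebra Ash Bsh := g.toAlgebra
  haveI : IsScalarTower R Ash Bsh := IsScalarTower.of_algebraMap_eq fun r => by
    show algebraMap S Bsh (algebraMap R S r) = g (algebraMap (Localization.AtPrime p) Ash (algebraMap R _ r))
    rw [← RingHom.comp_apply g, hg]
    show _ = algebraMap (Localization.AtPrime q) Bsh (φ (algebraMap R _ r))
    rw [Localization.localRingHom_to_map]; rfl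
  let F := Algebra.TensorProduct.lift (IsScalarTower.toAlgHom R Ash Bsh) (IsScalarTower.toAlgHom R S Bsh) (fun _ _ => Commute.all _ _)
  let Q : Ideal (Ash ⊗[R] S) := Ideal.comap F (maximalIdeal Bsh)
  let E := Hens.Hsh (Localization.AtPrime Q)
  obtain ⟨e, he⟩ := Hens.strictHenselization_tensor_at_prime R S p q Ash Bsh Q E rfl
  letI : Algebra Ash E := ((algebraMap (Localization.AtPrime Q) E).comp (algebraMap Ash (Localization.AtPrime Q))).toAlgebra
  haveI : IsScalarTower Ash (Localization.AtPrime Q) E := IsScalarTower.of_algebraMap_eq fun _ => rfl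
  have heA : ∀ r : Ash, e (algebraMap Ash E r) = algebraMap Ash Bsh r := fun r => by
    show e (algebraMap (Localization.AtPrime Q) E (algebraMap (Ash ⊗[R] S) (Localization.AtPrime Q) (r ⊗ₜ 1))) = _
    refine (he _).trans ?_
    show F (r ⊗ₜ 1) = _
    rw [Algebra.TensorProduct.lift_tmul, map_one, mul_one]; rfl
  let eA : E ≃ₐ[Ash] Bsh := AlgEquiv.ofRingEquiv heA
  letI : Algebra k Ash := ((algebraMap R Ash).comp (algebraMap k R)).toAlgebra
  haveI : IsScalarTower k R Ash := IsScalarTower.of_algebraMap_eq fun _ => rfl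
  let A₁ := Localization.AtPrime Q
  have hQ : Q.comap (algebraMap Ash (Ash ⊗[R] S)) = maximalIdeal Ash := by
    have hg4 : (maximalIdeal Bsh).comap g = maximalIdeal Ash := ((local_hom_TFAE g).out 0 4).mp ‹_›
    rw [← hg4]
    refine Ideal.ext fun r => ?_
    show F (r ⊗ₜ 1) ∈ maximalIdeal Bsh ↔ g r ∈ maximalIdeal Bsh
    rw [Algebra.TensorProduct.lift_tmul, map_one, mul_one]; rfl
  haveI : Module.Flat R S := inferInstance
  haveI : Module.Flat Ash (Ash ⊗[R] S) := inferInstance
  haveI : Module.Flat (Ash ⊗[R] S) A₁ := IsLocalization.flat A₁ Q.primeCompl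
  haveI : Module.Flat Ash A₁ := Module.Flat.trans Ash (Ash ⊗[R] S) A₁
  haveI : IsLocalHom (algebraMap Ash A₁) := by
    refine ((local_hom_TFAE _).out 0 4).mpr ?_
    rw [IsScalarTower.algebraMap_eq Ash (Ash ⊗[R] S) A₁, ← Ideal.comap_comap]
    show ((maximalIdeal A₁).under (Ash ⊗[R] S)).comap _ = _
    rw [IsLocalization.AtPrime.under_maximalIdeal A₁ Q]
    exact hQ
  have hcount := encard_minimalPrimes_eq Ash A₁ E (fun N _ _ _ _ W hW => ?_) fun N _ _ _ _ hN => by
    haveI := hN
    haveI := BranchSm1.isPurelyInseparable_residue_of_isSepClosed Ash N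
    haveI : IsLocalHom (algebraMap Ash Bsh) := inferInstanceAs (IsLocalHom g)
    obtain ⟨hloc, -⟩ := Hens.isLocalRing_tensor_of_purelyInseparable Ash N Bsh
    haveI := hloc
    exact BranchSm1.isLocalRing_tensor_congr eA
  · rw [← hcount]
    exact StalkHens14.encard_minimalPrimes_of_ringEquiv e.symm
  · -- normal algebras stay geometrically unibranch
    haveI := hW
    letI : Algebra R N := ((algebraMap Ash N).comp (algebraMap R Ash)).toAlgebra
    haveI : IsScalarTower R Ash N := IsScalarTower.of_algebraMap_eq fun _ => rfl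
    letI : Algebra k N := ((algebraMap R N).comp (algebraMap k R)).toAlgebra
    haveI : IsScalarTower k R N := IsScalarTower.of_algebraMap_eq fun _ => rfl
    let ε : N ⊗[Ash] (Ash ⊗[R] S) ≃+* N ⊗[k] k' :=
      (Algebra.TensorProduct.cancelBaseChange R Ash N N S).toRingEquiv.trans
        (Algebra.TensorProduct.cancelBaseChange k R N N k').toRingEquiv
    refine gu_tensor_localization N (Ash ⊗[R] S) A₁ Q.primeCompl (fun V _ => ?_) W
    exact (Branch14.GUT.gu_atPrime_equiv ε V).1 fun P' _ _ =>
      (Branch14.GUT.gu_atPrime_equiv (Algebra.TensorProduct.comm k N k').toRingEquiv P').1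
        fun P'' _ _ => Branch14.GUT.isGeomUnibranch_tensor_normal k N k' P''

/-- The number of geometric branches is unchanged by a field extension. -/
theorem numGeomBranches_field (k : Type u) [Field k] (A : Type u) [CommRing A] [IsLocalRing A] [Algebra k A]
    (k' : Type u) [Field k'] [Algebra k k'] (q : Ideal (A ⊗[k] k')) [q.IsPrime]
    (hq : q.comap (algebraMap A (A ⊗[k] k')) = maximalIdeal A) :
    Brnch.numGeomBranches (Localization.AtPrime q) = Brnch.numGeomBranches A := by
  haveI : q.LiesOver (maximalIdeal A) := ⟨hq.symm⟩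
  rw [Branch14.numGeomBranches_of_ringEquiv
      (IsLocalization.atUnits A (maximalIdeal A).primeCompl (S := Localization.AtPrime (maximalIdeal A))
        fun x hx => of_not_not hx).toRingEquiv,
    ← Branch14.card_minimalPrimes_strictHenselization (Localization.AtPrime q) (Hens.Hsh (Localization.AtPrime q)),
    ← Branch14.card_minimalPrimes_strictHenselization (Localization.AtPrime (maximalIdeal A))
      (Hens.Hsh (Localization.AtPrime (maximalIdeal A))), ENat.card_coe_set_eq, ENat.card_coe_set_eq]
  exact encard_minimalPrimes_field k A k' q (maximalIdeal A) _ _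

end Groth.Agent.BranchField25
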