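import Groth.Agent.Lib.BranchField25.Main
import Groth.Agent.Lib.GeomNorm15.Stalk
import Groth.Prelude.Def_Brnch
import Groth.Prelude.Def_CurvBase

/-!
# Geometric branches of schemes under extension of the ground field
-/

universe u

open AlgebraicGeometry CategoryTheory CategoryTheory.Limits TensorProduct IsLocalRing

set_option linter.style.haveILetI false

attribute [local instance] Curv2.stalkAlgebra

namespace Groth.Agent.BranchField25

/-- Geometric branches at a point of a base change. -/
theorem numGeomBranchesAt_bc (k : Type u) [Field k] (X : Scheme.{u}) [X.Over (Spec (CommRingCat.of k))]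
    (K : Type u) [Field K] [Algebra k K] (y : ↥(Curv2.bc k X K)) :
    Brnch.numGeomBranchesAt X (Curv2.bcFst k X K y) = Brnch.numGeomBranchesAt (Curv2.bc k X K) y := by
  let x := Curv2.bcFst k X K y
  obtain ⟨pt, hstalk, hfst, hsurj⟩ := GeomNorm15.exists_stalk_points k X x K
  obtain ⟨P, hP⟩ := hsurj y rfl
  obtain ⟨e⟩ : Nonempty ((Curv2.bc k X K).presheaf.stalk y ≃+* Localization.AtPrime P.asIdeal) := hP ▸ hstalk P
  let A := X.presheaf.stalk x
  let c : ↥A ⊗[k] K ≃+* K ⊗[k] ↥A := (Algebra.TensorProduct.comm k A K).toRingEquiv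
  let q : Ideal (↥A ⊗[k] K) := P.asIdeal.comap c.toRingHom
  haveI : q.IsPrime := Ideal.comap_isPrime _ _
  have h1 : PrimeSpectrum.comap
      (Algebra.TensorProduct.includeRight (R := k) (A := K) (B := ↥A)).toRingHom P = closedPoint ↥A := by
    refine (X.fromSpecStalk x).isEmbedding.injective ?_
    rw [Scheme.fromSpecStalk_closedPoint]
    exact ((congrArg (Curv2.bcFst k X K) hP).symm.trans (hfst P)).symm
  have hq : q.comap (algebraMap ↥A (↥A ⊗[k] K)) = maximalIdeal ↥A :=
    congrArg PrimeSpectrum.asIdeal h1
  have hmap : q.primeCompl.map c.toMonoidHom = P.asIdeal.primeCompl := by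
    ext z
    constructor
    · rintro ⟨w, hw, rfl⟩
      exact hw
    · intro hz
      refine ⟨c.symm z, ?_, c.apply_symm_apply z⟩
      show ¬ c (c.symm z) ∈ P.asIdeal
      rw [c.apply_symm_apply]
      exact hz
  refine Eq.trans ?_ (Branch14.numGeomBranches_of_ringEquiv e).symm
  refine (numGeomBranches_field k ↥A K q hq).symm.trans ?_
  exact Branch14.numGeomBranches_of_ringEquiv
    (IsLocalization.ringEquivOfRingEquiv (Localization.AtPrime q) (Localization.AtPrime P.asIdeal) c hmap)

end Groth.Agent.BranchField25
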